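import Mathlib

/-!
# Recognising a full symmetric group from a faithful action on an invariant finite set
-/

set_option autoImplicit false
set_option linter.style.haveILetI false

namespace Cfsg.Agent.Lib.H5.PermRec

/-- a finite group of order `n!` acting faithfully on an invariant `n`-set is the symmetric group -/
theorem nonempty_mulEquiv_perm_of_faithful {H X : Type*} [Group H] [Finite H] [DecidableEq X]
    [MulAction H X] (O : Finset X) (n : ℕ) (hO : O.card = n)
    (hinv : ∀ (h : H) (x : X), x ∈ O → h • x ∈ O)
    (hfaith : ∀ h : H, (∀ x ∈ O, h • x = x) → h = 1)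
    (hcard : Nat.card H = n.factorial) : Nonempty (H ≃* Equiv.Perm (Fin n)) := by
  classical
  letI : MulAction H O :=
    { smul := fun h x => ⟨h • (x : X), hinv h x x.2⟩
      one_smul := fun x => Subtype.ext (one_smul H (x : X))
      mul_smul := fun a b x => Subtype.ext (mul_smul a b (x : X)) }
  have hsm : ∀ (h : H) (x : O), ((h • x : O) : X) = h • (x : X) := fun h x => rfl
  let φ : H →* Equiv.Perm O := MulAction.toPermHom H O
  have hinj : Function.Injective φ := by
    rw [injective_iff_map_eq_one]
    intro h hh
    apply hfaith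
    intro x hx
    have h1 : φ h ⟨x, hx⟩ = ⟨x, hx⟩ := by rw [hh]; rfl
    have h2 := congrArg Subtype.val h1
    exact h2
  have hcO : Nat.card (Equiv.Perm O) = n.factorial := by
    rw [Nat.card_eq_fintype_card, Fintype.card_perm, Fintype.card_coe, hO]
  have hbij : Function.Bijective φ := by
    rw [Nat.bijective_iff_injective_and_card]
    exact ⟨hinj, by rw [hcard, hcO]⟩
  have e1 : H ≃* Equiv.Perm O := MulEquiv.ofBijective φ hbij
  have e2 : O ≃ Fin n := O.equivFinOfCardEq hO
  exact ⟨e1.trans (Equiv.permCongrHom e2)⟩

end Cfsg.Agent.Lib.H5.PermRec
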