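import Mathlib
import Cfsg.Agent.Lib.H5.M11.L211
import Cfsg.Agent.Lib.H5.M11.PermRec
import Cfsg.Agent.Lib.H28.WordChain
import Cfsg.Agent.Lib.H28.M11Simple
import Cfsg.Agent.Lib.H28.M24Six

/-!
# The stabilizer of a pair in the `12`-point action of `M₁₁` is `S₅`
-/

set_option autoImplicit false
set_option linter.style.haveILetI false

open scoped Pointwise
open Cfsg

namespace Cfsg.Agent.Lib.H5.PairStab

open Cfsg.Agent.Lib.H28 Cfsg.Agent.Lib.H5.L211

/-- an injective triple in a set with at least three elements, starting with two given points -/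
theorem exists_triple' {X : Type*} [DecidableEq X] (s : Finset X) (hs : 3 ≤ s.card) {z w : X}
    (hz : z ∈ s) (hw : w ∈ s) (hzw : z ≠ w) :
    ∃ x : Fin 3 → X, Function.Injective x ∧ x 0 = z ∧ x 1 = w ∧ ∀ i, x i ∈ s := by
  have h1 : 0 < ((s.erase z).erase w).card := by
    rw [Finset.card_erase_of_mem (Finset.mem_erase.mpr ⟨hzw.symm, hw⟩),
      Finset.card_erase_of_mem hz]
    omega
  obtain ⟨a, ha⟩ := Finset.card_pos.mp h1
  rw [Finset.mem_erase, Finset.mem_erase] at ha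
  refine ⟨![z, w, a], ?_, rfl, rfl, ?_⟩
  · intro i j hij
    fin_cases i <;> fin_cases j <;> simp at hij ⊢
    · exact hzw hij
    · exact ha.2.1 hij.symm
    · exact hzw hij.symm
    · exact ha.1 hij.symm
    · exact ha.2.1 hij
    · exact ha.1 hij
  · intro i
    fin_cases i
    · exact hz
    · exact hw
    · exact ha.2.2

theorem smul_pair (g : Equiv.Perm GolayPt) (a b : GolayPt) :
    g • ({a, b} : Finset GolayPt) = {g a, g b} := by
  rw [Finset.smul_finset_insert, Finset.smul_finset_singleton]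
  rfl

variable {d : Finset GolayPt}

/-- the order of the pair stabilizer -/
theorem card_pairStab (hd : d ∈ dodecads) {p q q' : GolayPt} (hp : p ∈ d) (hq : q ∉ d)
    (hq' : q' ∉ d) (hqq' : q ≠ q') :
    Nat.card ↥(MulAction.stabilizer M24 d ⊓ MulAction.stabilizer M24 p ⊓
      MulAction.stabilizer M24 ({q, q'} : Finset GolayPt)) = 120 := by
  have h1 := card_eq_orbit_mul_stab (G := M24)
    (MulAction.stabilizer M24 d ⊓ MulAction.stabilizer M24 p) ({q, q'} : Finset GolayPt)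
  have h2 : {y | ∃ h ∈ MulAction.stabilizer M24 d ⊓ MulAction.stabilizer M24 p,
      h • ({q, q'} : Finset GolayPt) = y} =
      ((Finset.powersetCard 2 (dᶜ : Finset GolayPt) : Finset (Finset GolayPt)) :
        Set (Finset GolayPt)) := by
    ext y
    simp only [Set.mem_ofPred_eq, Finset.mem_coe, Finset.mem_powersetCard]
    constructor
    · rintro ⟨h, hh, rfl⟩
      rw [Subgroup.mem_inf, MulAction.mem_stabilizer_iff, MulAction.mem_stabilizer_iff] at hh
      have hsm : h • ({q, q'} : Finset GolayPt) =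
          {(h : Equiv.Perm GolayPt) q, (h : Equiv.Perm GolayPt) q'} :=
        smul_pair (h : Equiv.Perm GolayPt) q q'
      rw [hsm]
      constructor
      · intro z hz
        rw [Finset.mem_insert, Finset.mem_singleton] at hz
        rw [Finset.mem_compl]
        rcases hz with rfl | rfl
        · intro hcon
          exact hq ((mem_iff_of_smul_eq (g := (h : Equiv.Perm GolayPt)) hh.1 q).mp hcon)
        · intro hcon
          exact hq' ((mem_iff_of_smul_eq (g := (h : Equiv.Perm GolayPt)) hh.1 q').mp hcon)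
      · rw [Finset.card_pair]
        exact fun hcon => hqq' ((h : Equiv.Perm GolayPt).injective hcon)
    · rintro ⟨hyd, hy2⟩
      obtain ⟨a, b, hab, rfl⟩ := Finset.card_eq_two.mp hy2
      have ha : a ∈ (dᶜ : Finset GolayPt) := hyd (by simp)
      have hb : b ∈ (dᶜ : Finset GolayPt) := hyd (by simp)
      have hc : 3 ≤ (dᶜ : Finset GolayPt).card := by
        rw [Finset.card_compl, card_GolayPt, hd.2]; norm_num
      obtain ⟨x, hx, hx0, hx1, hxd⟩ := exists_triple' dᶜ hc (Finset.mem_compl.mpr hq)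
        (Finset.mem_compl.mpr hq') hqq'
      obtain ⟨y', hy', hy0, hy1, hyd'⟩ := exists_triple' dᶜ hc ha hb hab
      obtain ⟨g, hg, hgd, hgp, hmap⟩ := dodPtTrans_of_mem hd hp x y' hx hy'
        (fun i => Finset.mem_compl.mp (hxd i)) (fun i => Finset.mem_compl.mp (hyd' i))
      refine ⟨⟨g, hg⟩, ?_, ?_⟩
      · rw [Subgroup.mem_inf, MulAction.mem_stabilizer_iff, MulAction.mem_stabilizer_iff]
        exact ⟨hgd, hgp⟩
      · have h0 := hmap 0
        have h1 := hmap 1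
        rw [hx0, hy0] at h0
        rw [hx1, hy1] at h1
        have hsm : (⟨g, hg⟩ : M24) • ({q, q'} : Finset GolayPt) = {g q, g q'} := smul_pair g q q'
        rw [hsm, h0, h1]
  rw [h2, Set.ncard_coe_finset, Finset.card_powersetCard, card_stabilizer_dodecad_point hd hp,
    Finset.card_compl, card_GolayPt, hd.2] at h1
  have h66 : Nat.choose (24 - 12) 2 = 66 := by decide
  rw [h66] at h1
  omega

/-! ### The standard configuration -/

/-- the standard invariant `5`-set `{2, 3, 6, 8, 18}` -/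
def maskO : ℕ := 262476

/-- the standard pair `{5, 7}` -/
def maskQ : ℕ := 160

def s5Chain : List (ℕ × List (List ℕ)) :=
  [(2, [[], [3, 3, 2, 0, 3, 1, 4, 4, 0, 3, 3, 0, 2, 3, 3, 2, 0, 3, 1, 4, 4, 0, 3, 3, 0, 2], [3, 2, 0, 3, 1, 4, 4, 0, 3, 3, 0, 2, 4, 4, 2, 1, 4, 4, 1, 3, 3, 0, 4, 1, 2], [2, 0, 3, 1, 4, 4, 0, 3, 3, 0, 2, 3, 3, 2, 1, 4, 4, 1, 3, 3, 0, 4, 1, 2, 4], [3, 2, 1, 4, 4, 1, 3, 3, 0, 4, 1, 2, 3, 2, 0, 3, 1, 4, 4, 0, 3, 3, 0, 2, 4, 2, 1, 4, 4, 1, 3, 3, 0, 4, 1, 2]]),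
    (3, [[], [4, 4, 2, 1, 4, 4, 1, 3, 3, 0, 4, 1, 2, 4, 2, 1, 4, 4, 1, 3, 3, 0, 4, 1, 2, 3], [3, 3, 2, 1, 4, 4, 1, 3, 3, 0, 4, 1, 2, 4, 2, 1, 4, 4, 1, 3, 3, 0, 4, 1, 2, 3, 2, 1, 4, 4, 1, 3, 3, 0, 4, 1, 2], [4, 2, 0, 3, 1, 4, 4, 0, 3, 3, 0, 2, 3, 2, 0, 3, 1, 4, 4, 0, 3, 3, 0, 2, 3, 3]]),
    (6, [[], [4, 2, 0, 3, 1, 4, 4, 0, 3, 3, 0, 2, 2, 0, 3, 1, 4, 4, 0, 3, 3, 0, 2, 3, 2, 0, 3, 1, 4, 4, 0, 3, 3, 0, 2, 2, 0, 3, 1, 4, 4, 0, 3, 3, 0, 2, 4], [3, 2, 1, 4, 4, 1, 3, 3, 0, 4, 1, 2, 2, 1, 4, 4, 1, 3, 3, 0, 4, 1, 2, 4, 2, 1, 4, 4, 1, 3, 3, 0, 4, 1, 2, 2, 1, 4, 4, 1, 3, 3, 0, 4, 1, 2, 3]]),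
    (8, [[], [3, 2, 0, 3, 1, 4, 4, 0, 3, 3, 0, 2, 4, 4, 2, 0, 3, 1, 4, 4, 0, 3, 3, 0, 2, 3, 3, 2, 1, 4, 4, 1, 3, 3, 0, 4, 1, 2, 2, 1, 4, 4, 1, 3, 3, 0, 4, 1, 2]])]

/-- the subgroup of `M₂₄` preserving the standard dodecad, its point `0`, the pair `{5, 7}` and
the `5`-set -/
noncomputable def K0 : Subgroup (Equiv.Perm GolayPt) :=
  (stabMask dod0 ⊓ stabMask maskQ ⊓ stabMask maskO) ⊓
    MulAction.stabilizer (Equiv.Perm GolayPt) (gPt 0)

def inK0 (w : List ℕ) : Bool :=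
  presCheck w dod0 && presCheck w maskQ && presCheck w maskO && (evalPt w 0 == 0)

theorem wordPerm_mem_K0 {w : List ℕ} (h : inK0 w = true) : wordPerm w ∈ K0 := by
  unfold inK0 at h
  rw [Bool.and_eq_true, Bool.and_eq_true, Bool.and_eq_true, beq_iff_eq] at h
  unfold K0
  rw [Subgroup.mem_inf, Subgroup.mem_inf, Subgroup.mem_inf, MulAction.mem_stabilizer_iff]
  exact ⟨⟨⟨wordPerm_mem_stabMask h.1.1.1, wordPerm_mem_stabMask h.1.1.2⟩,
    wordPerm_mem_stabMask h.1.2⟩, wordPerm_fix_of_evalPt (by norm_num) h.2⟩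

theorem s5Chain_mem : ∀ c ∈ s5Chain, ∀ w ∈ c.2, wordPerm w ∈ K0 := by
  intro c hc w hw
  apply wordPerm_mem_K0
  have : ∀ c ∈ s5Chain, ∀ w ∈ c.2, inK0 w = true := by decide +kernel
  exact this c hc w hw

theorem s5Chain_ok : chainCheck [] s5Chain = true := by decide +kernel

theorem card_K0_ge : 120 ≤ Nat.card K0 := by
  have h := card_ge_of_chainCheck K0 s5Chain [] s5Chain_mem s5Chain_ok
  rw [fixSub_nil] at h
  refine le_trans ?_ h
  decide

theorem ptsMask_maskQ : ptsMask maskQ = {gPt 5, gPt 7} := by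
  decide +kernel

theorem ptsMask_maskO_subset : ptsMask maskO ⊆ ptsMask dod0 := by
  decide +kernel

theorem card_ptsMask_maskO : (ptsMask maskO).card = 5 := by
  rw [card_ptsMask]
  decide

theorem gPt5_not_mem : gPt 5 ∉ ptsMask dod0 := by
  rw [mem_ptsMask, gIdx_gPt (by norm_num)]
  decide

theorem gPt7_not_mem : gPt 7 ∉ ptsMask dod0 := by
  rw [mem_ptsMask, gIdx_gPt (by norm_num)]
  decide

/-- in the standard configuration, the pair stabilizer preserves the `5`-set -/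
theorem standard_invariant (h : Equiv.Perm GolayPt) (hM : h ∈ M24)
    (hd : h • ptsMask dod0 = ptsMask dod0) (hp : h (gPt 0) = gPt 0)
    (hq : h • ({gPt 5, gPt 7} : Finset GolayPt) = {gPt 5, gPt 7}) :
    h • ptsMask maskO = ptsMask maskO := by
  have hc := card_pairStab ptsMask_dod0_mem gPt0_mem_dod0 gPt5_not_mem gPt7_not_mem
    (gPt_ne (by norm_num) (by norm_num) (by norm_num))
  have hinj : Function.Injective (M24.subtype) := Subtype.val_injective
  have hc2 := Subgroup.card_map_of_injective (K := (MulAction.stabilizer M24 (ptsMask dod0) ⊓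
    MulAction.stabilizer M24 (gPt 0) ⊓
    MulAction.stabilizer M24 ({gPt 5, gPt 7} : Finset GolayPt))) hinj
  rw [hc] at hc2
  have hle : K0 ≤ (MulAction.stabilizer M24 (ptsMask dod0) ⊓
      MulAction.stabilizer M24 (gPt 0) ⊓
      MulAction.stabilizer M24 ({gPt 5, gPt 7} : Finset GolayPt)).map M24.subtype := by
    intro k hk
    unfold K0 at hk
    rw [Subgroup.mem_inf, Subgroup.mem_inf, Subgroup.mem_inf, MulAction.mem_stabilizer_iff,
      mem_stabMask_iff_smul, mem_stabMask_iff_smul, mem_stabMask_iff_smul] at hk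
    obtain ⟨⟨⟨⟨hkM, hkd⟩, ⟨-, hkq⟩⟩, -⟩, hkp⟩ := hk
    rw [Subgroup.mem_map]
    refine ⟨⟨k, hkM⟩, ?_, rfl⟩
    rw [Subgroup.mem_inf, Subgroup.mem_inf, MulAction.mem_stabilizer_iff,
      MulAction.mem_stabilizer_iff, MulAction.mem_stabilizer_iff]
    refine ⟨⟨hkd, hkp⟩, ?_⟩
    rw [← ptsMask_maskQ]
    exact hkq
  have heq := Subgroup.eq_of_le_of_card_ge hle (by rw [hc2]; exact card_K0_ge)
  have hmem : h ∈ (MulAction.stabilizer M24 (ptsMask dod0) ⊓
      MulAction.stabilizer M24 (gPt 0) ⊓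
      MulAction.stabilizer M24 ({gPt 5, gPt 7} : Finset GolayPt)).map M24.subtype := by
    rw [Subgroup.mem_map]
    refine ⟨⟨h, hM⟩, ?_, rfl⟩
    rw [Subgroup.mem_inf, Subgroup.mem_inf, MulAction.mem_stabilizer_iff,
      MulAction.mem_stabilizer_iff, MulAction.mem_stabilizer_iff]
    exact ⟨⟨hd, hp⟩, hq⟩
  rw [← heq] at hmem
  unfold K0 at hmem
  rw [Subgroup.mem_inf, Subgroup.mem_inf, Subgroup.mem_inf, mem_stabMask_iff_smul,
    mem_stabMask_iff_smul, mem_stabMask_iff_smul] at hmem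
  exact hmem.1.2.2

/-! ### Transport to the general configuration -/

/-- every configuration is conjugate to the standard one -/
theorem exists_std (hd : d ∈ dodecads) {p q q' : GolayPt} (hp : p ∈ d) (hq : q ∉ d)
    (hq' : q' ∉ d) (hqq' : q ≠ q') :
    ∃ g ∈ M24, g • ptsMask dod0 = d ∧ g (gPt 0) = p ∧ g (gPt 5) = q ∧ g (gPt 7) = q' := by
  obtain ⟨g0, hg0, hd0⟩ := exists_M24_smul_dod0 hd
  rw [← ptsMask_eq_support₂] at hd0
  have h0 : g0 (gPt 0) ∈ d := by
    rw [← hd0]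
    exact Finset.smul_mem_smul_finset gPt0_mem_dod0
  obtain ⟨g1, hg1, hg1d, hg1p⟩ := dodTrans_of_mem hd 1 (by norm_num) (fun _ => g0 (gPt 0))
    (fun _ => p) (Function.injective_of_subsingleton _) (Function.injective_of_subsingleton _)
    (fun _ => h0) (fun _ => hp)
  have hg10 : (g1 * g0) • ptsMask dod0 = d := by rw [mul_smul, hd0, hg1d]
  have hmem : ∀ x, (g1 * g0) x ∈ d ↔ x ∈ ptsMask dod0 := by
    intro x
    rw [← hg10, ← Equiv.Perm.smul_def, Finset.smul_mem_smul_finset_iff]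
  have hn5 : (g1 * g0) (gPt 5) ∉ d := fun hcon => gPt5_not_mem ((hmem _).mp hcon)
  have hn7 : (g1 * g0) (gPt 7) ∉ d := fun hcon => gPt7_not_mem ((hmem _).mp hcon)
  have hne : (g1 * g0) (gPt 5) ≠ (g1 * g0) (gPt 7) := fun hcon =>
    gPt_ne (by norm_num) (by norm_num) (by norm_num : (5 : ℕ) ≠ 7) ((g1 * g0).injective hcon)
  have hc : 3 ≤ (dᶜ : Finset GolayPt).card := by
    rw [Finset.card_compl, card_GolayPt, hd.2]; norm_num
  obtain ⟨x, hx, hx0, hx1, hxd⟩ := exists_triple' dᶜ hc (Finset.mem_compl.mpr hn5)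
    (Finset.mem_compl.mpr hn7) hne
  obtain ⟨y, hy, hy0, hy1, hyd⟩ := exists_triple' dᶜ hc (Finset.mem_compl.mpr hq)
    (Finset.mem_compl.mpr hq') hqq'
  obtain ⟨g2, hg2, hg2d, hg2p, hmap⟩ := dodPtTrans_of_mem hd hp x y hx hy
    (fun i => Finset.mem_compl.mp (hxd i)) (fun i => Finset.mem_compl.mp (hyd i))
  refine ⟨g2 * (g1 * g0), M24.mul_mem hg2 (M24.mul_mem hg1 hg0), ?_, ?_, ?_, ?_⟩
  · rw [mul_smul, hg10, hg2d]
  · rw [Equiv.Perm.mul_apply, Equiv.Perm.mul_apply, hg1p 0, hg2p]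
  · have := hmap 0
    rw [hx0, hy0] at this
    rw [Equiv.Perm.mul_apply, this]
  · have := hmap 1
    rw [hx1, hy1] at this
    rw [Equiv.Perm.mul_apply, this]

/-- **the pair stabilizer is `S₅`** -/
theorem nonempty_mulEquiv (hd : d ∈ dodecads) {p q q' : GolayPt} (hp : p ∈ d) (hq : q ∉ d)
    (hq' : q' ∉ d) (hqq' : q ≠ q') :
    Nonempty (↥(MulAction.stabilizer M24 d ⊓ MulAction.stabilizer M24 p ⊓
      MulAction.stabilizer M24 ({q, q'} : Finset GolayPt)) ≃* Equiv.Perm (Fin 5)) := by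
  obtain ⟨g, hg, hgd, hgp, hgq, hgq'⟩ := exists_std hd hp hq hq' hqq'
  have hmem : ∀ h : ↥(MulAction.stabilizer M24 d ⊓ MulAction.stabilizer M24 p ⊓
      MulAction.stabilizer M24 ({q, q'} : Finset GolayPt)),
      ((h : M24) : Equiv.Perm GolayPt) • d = d ∧
      ((h : M24) : Equiv.Perm GolayPt) p = p ∧
      ((h : M24) : Equiv.Perm GolayPt) • ({q, q'} : Finset GolayPt) = {q, q'} := by
    intro h
    have h2 := h.2
    rw [Subgroup.mem_inf, Subgroup.mem_inf, MulAction.mem_stabilizer_iff,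
      MulAction.mem_stabilizer_iff, MulAction.mem_stabilizer_iff] at h2
    exact ⟨h2.1.1, h2.1.2, h2.2⟩
  have hsmul : ∀ (h : ↥(MulAction.stabilizer M24 d ⊓ MulAction.stabilizer M24 p ⊓
      MulAction.stabilizer M24 ({q, q'} : Finset GolayPt))) (x : GolayPt),
      h • x = ((h : M24) : Equiv.Perm GolayPt) x := fun h x => rfl
  have hone : ∀ h : ↥(MulAction.stabilizer M24 d ⊓ MulAction.stabilizer M24 p ⊓
      MulAction.stabilizer M24 ({q, q'} : Finset GolayPt)),
      ((h : M24) : Equiv.Perm GolayPt) = 1 → h = 1 := by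
    intro h hh
    apply Subtype.ext
    apply Subtype.ext
    exact hh
  -- the invariant `5`-set
  have hOinv : ∀ h : ↥(MulAction.stabilizer M24 d ⊓ MulAction.stabilizer M24 p ⊓
      MulAction.stabilizer M24 ({q, q'} : Finset GolayPt)),
      ((h : M24) : Equiv.Perm GolayPt) • (g • ptsMask maskO) = g • ptsMask maskO := by
    intro h
    obtain ⟨h1, h2, h3⟩ := hmem h
    have key := standard_invariant (g⁻¹ * ((h : M24) : Equiv.Perm GolayPt) * g)
      (M24.mul_mem (M24.mul_mem (M24.inv_mem hg) (h : M24).2) hg)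
      (by rw [mul_smul, mul_smul, hgd, h1, ← hgd, inv_smul_smul])
      (by rw [Equiv.Perm.mul_apply, Equiv.Perm.mul_apply, hgp, h2, ← hgp,
        Equiv.Perm.inv_def, Equiv.symm_apply_apply])
      (by
        rw [mul_smul, mul_smul, smul_pair g, hgq, hgq', h3, ← hgq, ← hgq', ← smul_pair g,
          inv_smul_smul])
    rw [mul_smul, mul_smul] at key
    calc ((h : M24) : Equiv.Perm GolayPt) • (g • ptsMask maskO)
        = g • (g⁻¹ • (((h : M24) : Equiv.Perm GolayPt) • (g • ptsMask maskO))) := by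
          rw [smul_inv_smul]
      _ = g • ptsMask maskO := by rw [key]
  have hOsub : g • ptsMask maskO ⊆ d := by
    rw [← hgd]
    exact Finset.smul_finset_subset_smul_finset ptsMask_maskO_subset
  have hOcard : (g • ptsMask maskO).card = 5 := by
    rw [Finset.card_smul_finset, card_ptsMask_maskO]
  refine PermRec.nonempty_mulEquiv_perm_of_faithful (X := GolayPt) (g • ptsMask maskO) 5 hOcard
    ?_ ?_ ?_
  · intro h x hx
    rw [hsmul, ← hOinv h, ← Equiv.Perm.smul_def]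
    exact Finset.smul_mem_smul_finset hx
  · intro h hfix
    apply hone
    obtain ⟨x, hx, hxs⟩ := exists_five _ (le_of_eq hOcard.symm)
    refine dodSharp_of_mem hd _ (h : M24).2 (hmem h).1 x hx ?_ ?_
    · intro i
      exact hOsub (hxs i)
    · intro i
      exact hfix _ (hxs i)
  · rw [card_pairStab hd hp hq hq' hqq']
    decide

end Cfsg.Agent.Lib.H5.PairStab
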